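import Mathlib
import Cfsg.Agent.Lib.Base.FPFAut
import Cfsg.Agent.Lib.PGroups.Basic
import Cfsg.Agent.Lib.PGroups.Commutator
import Cfsg.Agent.Lib.Chars.Irr

/-!
`p`-groups `P` with a normal subgroup `R` such that every element outside `R` is conjugate to
all elements of its coset, acted on by an automorphism of order dividing `p ^ e - 1`, where
`p ^ e` is the index of `R`.
-/

set_option autoImplicit false
set_option linter.style.haveILetI false

open Subgroup
open scoped commutatorElement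

namespace CfsgLib.CharApps.OneNonvanishing

universe u

/-- An automorphism without proper invariant subgroup has order dividing `|Z| - 1`. -/
theorem orderOf_dvd_card_sub_one {Z : Type*} [Group Z] [Finite Z] (ψ : MulAut Z)
    (hirr : ∀ S : Subgroup Z, (∀ z ∈ S, ψ z ∈ S) → S = ⊥ ∨ S = ⊤) :
    orderOf ψ ∣ Nat.card Z - 1 := by
  classical
  letI : MulAction (zpowers ψ) {z : Z // z ≠ 1} :=
    { smul := fun a z => ⟨(a : MulAut Z) z.1, fun h => z.2 (by simpa using h)⟩
      one_smul := fun z => Subtype.ext rfl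
      mul_smul := fun a b z => Subtype.ext rfl }
  have hfree : ∀ z : {z : Z // z ≠ 1}, MulAction.stabilizer (zpowers ψ) z = ⊥ := by
    intro z
    refine (eq_bot_iff_forall _).2 fun a ha => ?_
    have haz : (a : MulAut Z) z.1 = z.1 := congrArg Subtype.val ha
    let S : Subgroup Z := MonoidHom.eqLocus (a : MulAut Z).toMonoidHom (MonoidHom.id Z)
    have hS : ∀ x ∈ S, ψ x ∈ S := by
      intro x hx
      obtain ⟨k, hk⟩ := a.2
      have hc : Commute (a : MulAut Z) ψ := by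
        rw [← hk]; exact (Commute.refl ψ).zpow_left k
      have hx' : (a : MulAut Z) x = x := hx
      show (a : MulAut Z) (ψ x) = ψ x
      calc (a : MulAut Z) (ψ x) = ((a : MulAut Z) * ψ) x := rfl
        _ = (ψ * (a : MulAut Z)) x := by rw [hc.eq]
        _ = ψ ((a : MulAut Z) x) := rfl
        _ = ψ x := by rw [hx']
    rcases hirr S hS with h | h
    · exact absurd (Subgroup.mem_bot.1 (h ▸ (show z.1 ∈ S from haz))) z.2
    · exact Subtype.ext (MulEquiv.ext fun x => (h.ge (mem_top x) : x ∈ S))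
  have hc := Nat.card_congr (MulAction.selfEquivOrbitsQuotientProd hfree)
  rw [Nat.card_prod, Nat.card_zpowers] at hc
  have hZ : Nat.card {z : Z // z ≠ 1} = Nat.card Z - 1 := by
    haveI := Fintype.ofFinite Z
    rw [Nat.card_eq_fintype_card, Nat.card_eq_fintype_card, Fintype.card_subtype_compl,
      Fintype.card_subtype_eq]
  exact ⟨_, by rw [← hZ, hc, Nat.mul_comm]⟩

/-- The class condition passes to quotients by subgroups of `R`; `φ ^ N` fixes `R`. -/
theorem fixes_of_coset_class {p : ℕ} (hp : p.Prime) {e N : ℕ}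
    (hN : ∀ d ∈ e.properDivisors, p ^ d - 1 ∣ N) :
    ∀ (n : ℕ) (P : Type u) [Group P] [Finite P], Nat.card P ≤ n → IsPGroup p P →
      ∀ (R : Subgroup P) [R.Normal] (φ : MulAut P), R.index = p ^ e → R ≠ ⊤ →
        R.map φ.toMonoidHom = R → φ ^ (p ^ e - 1) = 1 →
        (∀ x, x ∉ R → ∀ r ∈ R, IsConj x (x * r)) → ∀ r ∈ R, (φ ^ N) r = r := by
  intro n
  induction n with
  | zero => intro P _ _ h; exact absurd h (by have := Nat.card_pos (α := P); omega)
  | succ n ih =>
  intro P _ _ hn hP R hRn φ hidx hRtop hφR hφ hcls r hr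
  classical
  haveI := Fact.mk hp
  by_cases hRbot : R = ⊥
  · subst hRbot
    rw [mem_bot] at hr; subst hr; simp
  -- the socle-like invariant subgroup
  let S0 : Subgroup P :=
    { carrier := {z | z ∈ R ∧ z ∈ center P ∧ z ^ p = 1}
      one_mem' := ⟨one_mem _, one_mem _, one_pow _⟩
      mul_mem' := fun {a b} ha hb => ⟨mul_mem ha.1 hb.1, mul_mem ha.2.1 hb.2.1, by
        rw [Commute.mul_pow (show Commute a b from (mem_center_iff.1 ha.2.1 b).symm), ha.2.2,
          hb.2.2, one_mul]⟩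
      inv_mem' := fun {a} ha => ⟨inv_mem ha.1, inv_mem ha.2.1, by rw [inv_pow, ha.2.2, inv_one]⟩ }
  have hφmem : ∀ z ∈ R, φ z ∈ R := fun z hz => hφR ▸ mem_map_of_mem φ.toMonoidHom hz
  have hS0inv : ∀ z ∈ S0, φ z ∈ S0 := fun z hz =>
    ⟨hφmem z hz.1, (Subgroup.characteristic_iff_comap_eq.1
      (inferInstance : (center P).Characteristic) φ).ge hz.2.1, by rw [← map_pow, hz.2.2, map_one]⟩
  have hS0ne : S0 ≠ ⊥ := by
    have hinf : R ⊓ center P ≠ ⊥ := CfsgLib.PGroups.inf_center_ne_bot hP hRbot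
    haveI : Nontrivial ↥(R ⊓ center P) := (nontrivial_iff_ne_bot _).2 hinf
    obtain ⟨k, hk0, hk⟩ := (hP.to_subgroup (R ⊓ center P)).nontrivial_iff_card.1 inferInstance
    obtain ⟨z, hz⟩ := exists_prime_orderOf_dvd_card' (G := ↥(R ⊓ center P)) p
      (hk ▸ dvd_pow_self p hk0.ne')
    intro h0
    have hzS : (z : P) ∈ S0 := ⟨z.2.1, z.2.2, by
      have h' : z ^ p = 1 := hz ▸ pow_orderOf_eq_one z
      simpa using congrArg Subtype.val h'⟩
    rw [h0, mem_bot] at hzS
    rw [OneMemClass.coe_eq_one.1 hzS, orderOf_one] at hz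
    exact hp.ne_one hz.symm
  obtain ⟨Z, ⟨hZne, hZS, hZinv⟩, hZmin⟩ :=
    Set.Finite.exists_minimal (s := {S : Subgroup P | S ≠ ⊥ ∧ S ≤ S0 ∧ ∀ z ∈ S, φ z ∈ S})
      (Set.toFinite _) ⟨S0, hS0ne, le_rfl, hS0inv⟩
  have hZR : Z ≤ R := fun z hz => (hZS hz).1
  have hZc : Z ≤ center P := fun z hz => (hZS hz).2.1
  haveI hZn : Z.Normal := CfsgLib.Base.normal_of_le_center hZc
  have hZmap : Z.map φ.toMonoidHom = Z := by
    refine Subgroup.eq_of_le_of_card_ge ?_ ?_
    · rintro _ ⟨z, hz, rfl⟩; exact hZinv z hz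
    · exact (Nat.card_congr (Z.equivMapOfInjective φ.toMonoidHom φ.injective).toEquiv).le
  -- the order of `Z`
  obtain ⟨d, hd⟩ := (hP.to_subgroup Z).exists_card_eq
  obtain ⟨y, hy⟩ : ∃ y, y ∉ R := SetLike.exists_not_mem_of_ne_top R hRtop rfl
  have hZlt : Nat.card Z < p ^ e := by
    have h1 : Z < centralizer ({y} : Set P) := by
      refine lt_of_le_of_ne (fun z hz => mem_centralizer_singleton_iff.2
        (mem_center_iff.1 (hZc hz) y).symm) fun h => hy (hZR ?_)
      rw [h]; exact mem_centralizer_singleton_iff.2 rfl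
    have h2 : Nat.card Z < Nat.card (centralizer ({y} : Set P)) := by
      refine lt_of_le_of_ne (card_le_of_le h1.le) fun h => h1.ne ?_
      exact Subgroup.eq_of_le_of_card_ge h1.le h.ge
    have h3 : Nat.card R ≤ (centralizer ({y} : Set P)).index := by
      rw [CfsgLib.Chars.index_centralizer_eq y]
      exact Nat.card_le_card_of_injective
        (fun r : R => (⟨y * r, hcls y hy r r.2⟩ : {x : P // IsConj y x}))
        fun a b h => Subtype.ext (mul_left_cancel (congrArg Subtype.val h))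
    have h4 := card_mul_index (centralizer ({y} : Set P))
    have h5 := card_mul_index R
    rw [hidx] at h5
    have h6 : 0 < Nat.card R := Nat.card_pos
    nlinarith
  have hde : d < e := (Nat.pow_lt_pow_iff_right hp.one_lt).1 (hd ▸ hZlt)
  let ψ : MulAut Z := CfsgLib.Base.FPFAut.restrict φ hZmap
  have hψe : ψ ^ (p ^ e - 1) = 1 := CfsgLib.Base.FPFAut.restrict_pow_eq_one hZmap hφ
  have hψd : orderOf ψ ∣ p ^ d - 1 := by
    rw [← hd]
    refine orderOf_dvd_card_sub_one ψ fun S hS => ?_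
    by_cases hS0 : S = ⊥
    · exact Or.inl hS0
    right
    have hle : Z ≤ S.map Z.subtype := hZmin ⟨(map_eq_bot_iff_of_injective S Z.subtype_injective).not.2 hS0,
      (map_subtype_le S).trans hZS, by
        rintro _ ⟨z, hz, rfl⟩
        exact ⟨ψ z, hS z hz, rfl⟩⟩ (map_subtype_le S)
    refine eq_top_iff.2 fun z _ => ?_
    obtain ⟨w, hw, hwz⟩ := hle z.2
    exact Subtype.ext hwz ▸ hw
  have hbZ : ∀ z ∈ Z, (φ ^ N) z = z := by
    have hg : orderOf ψ ∣ p ^ Nat.gcd d e - 1 := by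
      rw [← Nat.pow_sub_one_gcd_pow_sub_one]
      exact Nat.dvd_gcd hψd (orderOf_dvd_of_pow_eq_one hψe)
    have hd0 : d ≠ 0 := by
      rintro rfl
      rw [pow_zero] at hd
      exact hZne (eq_bot_of_card_eq Z hd)
    have hgmem : Nat.gcd d e ∈ e.properDivisors :=
      Nat.mem_properDivisors.2 ⟨Nat.gcd_dvd_right d e,
        lt_of_le_of_lt (Nat.gcd_le_left e (Nat.pos_of_ne_zero hd0)) hde⟩
    have hψN : ψ ^ N = 1 := orderOf_dvd_iff_pow_eq_one.1 (hg.trans (hN _ hgmem))
    intro z hz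
    have := CfsgLib.Base.FPFAut.coe_restrict_pow φ hZmap ⟨z, hz⟩ N
    rw [show CfsgLib.Base.FPFAut.restrict φ hZmap ^ N = 1 from hψN] at this
    exact this.symm
  -- the quotient
  let π := QuotientGroup.mk' Z
  let φ' : MulAut (P ⧸ Z) := QuotientGroup.congr Z Z φ hZmap
  have hφ'mk : ∀ x : P, φ' (π x) = π (φ x) := fun x => rfl
  have hφ'pow : ∀ (k : ℕ) (x : P), (φ' ^ k) (π x) = π ((φ ^ k) x) := by
    intro k
    induction k with
    | zero => intro x; rfl
    | succ k ihk => intro x; rw [pow_succ', pow_succ', MulAut.mul_apply, ihk, hφ'mk]; rfl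
  have hcomap : (R.map π).comap π = R :=
    comap_map_eq_self (by rw [QuotientGroup.ker_mk']; exact hZR)
  have hsurj : Function.Surjective π := QuotientGroup.mk'_surjective Z
  have hn' : Nat.card (P ⧸ Z) ≤ n := by
    have h := Subgroup.card_eq_card_quotient_mul_card_subgroup Z
    have h1 : 1 < Nat.card Z := (one_lt_card_iff_ne_bot Z).2 hZne
    have h2 : 0 < Nat.card (P ⧸ Z) := Nat.card_pos
    nlinarith
  haveI : (R.map π).Normal := hRn.map π hsurj
  have hidx' : (R.map π).index = p ^ e := by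
    rw [← hidx, ← index_comap_of_surjective (R.map π) hsurj, hcomap]
  have htop' : R.map π ≠ ⊤ := fun h => hRtop (by rw [← hcomap, h, comap_top])
  have hφR' : (R.map π).map φ'.toMonoidHom = R.map π := by
    rw [map_map, show φ'.toMonoidHom.comp π = π.comp φ.toMonoidHom from
      MonoidHom.ext fun x => hφ'mk x, ← map_map, hφR]
  have hφ'1 : φ' ^ (p ^ e - 1) = 1 := by
    refine MulEquiv.ext fun q => ?_
    obtain ⟨x, rfl⟩ := hsurj q
    rw [hφ'pow, hφ]; rfl
  have hcls' : ∀ x, x ∉ R.map π → ∀ s ∈ R.map π, IsConj x (x * s) := by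
    intro q hq s hs
    obtain ⟨x, rfl⟩ := hsurj q
    obtain ⟨r, hr, rfl⟩ := hs
    have hxR : x ∉ R := fun h => hq (mem_map_of_mem π h)
    rw [← map_mul]
    exact π.map_isConj (hcls x hxR r hr)
  have hfix := ih (P ⧸ Z) hn' (hP.to_quotient Z) (R.map π) φ' hidx' htop' hφR' hφ'1 hcls'
    (π r) (mem_map_of_mem π hr)
  rw [hφ'pow] at hfix
  -- `b r = r z` with `z ∈ Z`
  set b := φ ^ N with hb
  have hz : r⁻¹ * b r ∈ Z := QuotientGroup.eq.1 hfix.symm
  set z := r⁻¹ * b r with hzdef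
  have hbr : b r = r * z := by rw [hzdef]; group
  have hpow : ∀ k : ℕ, (b ^ k) r = r * z ^ k := by
    intro k
    induction k with
    | zero => simp
    | succ k ihk =>
      rw [pow_succ', MulAut.mul_apply, ihk, map_mul, map_pow, hbr, hbZ z hz, mul_assoc,
        ← pow_succ']
  have hb1 : b ^ (p ^ e - 1) = 1 := by rw [hb, ← pow_mul, mul_comm, pow_mul, hφ, one_pow]
  have h1 := hpow (p ^ e - 1)
  rw [hb1] at h1
  have hz1 : z ^ (p ^ e - 1) = 1 := mul_left_cancel (a := r) (by rw [mul_one]; exact h1.symm)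
  have hzp : z ^ p = 1 := (hZS hz).2.2
  have he0 : e ≠ 0 := by omega
  have hcop : Nat.Coprime (p ^ e - 1) p := by
    refine (hp.coprime_iff_not_dvd.2 fun hdvd => ?_).symm
    have h1 : p ∣ p ^ e := dvd_pow_self p he0
    have h2 : 1 ≤ p ^ e := Nat.one_le_pow _ _ hp.pos
    have := Nat.dvd_sub h1 hdvd
    rw [Nat.sub_sub_self h2] at this
    exact hp.ne_one (Nat.dvd_one.1 this)
  have : z = 1 := orderOf_eq_one_iff.1 (Nat.dvd_one.1 (hcop ▸ Nat.dvd_gcd
    (orderOf_dvd_of_pow_eq_one hz1) (orderOf_dvd_of_pow_eq_one hzp)))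
  rw [hbr, this, mul_one]

variable {P : Type u} [Group P] [Finite P]

/-- If an automorphism fixes `R` and only `R` modulo `R`, then `R` is central. -/
theorem le_center_of_coset_class {R : Subgroup P} [R.Normal] (b : MulAut P) (hRtop : R ≠ ⊤)
    (hfix : ∀ r ∈ R, b r = r) (hmove : ∀ x, x⁻¹ * b x ∈ R → x ∈ R)
    (hcls : ∀ x, x ∉ R → ∀ r ∈ R, IsConj x (x * r)) :
    R ≤ center P ∧ ∀ x : P, ∃ u : P, ∃ r ∈ R, x = u⁻¹ * b u * r := by
  classical
  have hRmap : R.map b.toMonoidHom = R := by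
    refine Subgroup.eq_of_le_of_card_ge ?_ ?_
    · rintro _ ⟨z, hz, rfl⟩
      show b z ∈ R
      rw [hfix z hz]; exact hz
    · exact (Nat.card_congr (R.equivMapOfInjective b.toMonoidHom b.injective).toEquiv).le
  let b' : MulAut (P ⧸ R) := QuotientGroup.congr R R b hRmap
  have hfpf : MonoidHom.FixedPointFree (b' : P ⧸ R → P ⧸ R) := by
    intro q hq
    obtain ⟨x, rfl⟩ := QuotientGroup.mk'_surjective R q
    have hx : QuotientGroup.mk' R (b x) = QuotientGroup.mk' R x := hq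
    exact (QuotientGroup.eq_one_iff x).2 (hmove x (QuotientGroup.eq.1 hx.symm))
  have hcov : ∀ x : P, ∃ u : P, ∃ r ∈ R, x = u⁻¹ * b u * r := by
    intro x
    obtain ⟨q, hq⟩ := CfsgLib.Base.FPFAut.inv_mul_surjective hfpf (QuotientGroup.mk' R x)
    obtain ⟨u, rfl⟩ := QuotientGroup.mk'_surjective R q
    have hm : QuotientGroup.mk' R (u⁻¹ * b u) = QuotientGroup.mk' R x := hq
    exact ⟨u, (u⁻¹ * b u)⁻¹ * x, QuotientGroup.eq.1 hm, by group⟩
  refine ⟨?_, hcov⟩
  -- `u⁻¹ * b u` centralises `R`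
  have hcC : ∀ u : P, u⁻¹ * b u ∈ centralizer (R : Set P) := by
    intro u
    refine mem_centralizer_iff.2 fun r hr => ?_
    have hs : u * r * u⁻¹ ∈ R := ‹R.Normal›.conj_mem r hr u
    have h1 := hfix _ hs
    rw [map_mul, map_mul, hfix r hr, map_inv] at h1
    have h2 : b u * r = u * r * u⁻¹ * b u := mul_inv_eq_iff_eq_mul.1 h1
    calc r * (u⁻¹ * b u) = u⁻¹ * (u * r * u⁻¹ * b u) := by group
      _ = u⁻¹ * (b u * r) := by rw [h2]
      _ = u⁻¹ * b u * r := by group
  have hdec : ∀ x : P, ∃ c ∈ centralizer (R : Set P), ∃ r ∈ R, x = c * r := fun x => by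
    obtain ⟨u, r, hr, h⟩ := hcov x
    exact ⟨_, hcC u, r, hr, h⟩
  obtain ⟨x0, hx0⟩ : ∃ y, y ∉ R := SetLike.exists_not_mem_of_ne_top R hRtop rfl
  obtain ⟨y, hyC, r0, hr0, h0⟩ := hdec x0
  have hyR : y ∉ R := fun h => hx0 (h0 ▸ mul_mem h hr0)
  have hRC : R ≤ centralizer (R : Set P) := by
    intro r hr
    obtain ⟨u, hu⟩ := isConj_iff.1 (hcls y hyR r hr)
    obtain ⟨c, hc, r', hr', rfl⟩ := hdec u
    have hcy : r' * y = y * r' := mem_centralizer_iff.1 hyC r' hr'
    have : r = y⁻¹ * (c * y * c⁻¹) := by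
      have h1 : c * y * c⁻¹ = y * r := by
        rw [← hu]
        calc c * y * c⁻¹ = c * (y * r' * r'⁻¹) * c⁻¹ := by group
          _ = c * (r' * y * r'⁻¹) * c⁻¹ := by rw [hcy]
          _ = c * r' * y * (c * r')⁻¹ := by group
      rw [h1]; group
    rw [this]
    exact mul_mem (inv_mem hyC) (mul_mem (mul_mem hc hyC) (inv_mem hc))
  intro r hr
  refine mem_center_iff.2 fun x => ?_
  obtain ⟨c, hc, r', hr', rfl⟩ := hdec x
  exact (mem_centralizer_iff.1 (mul_mem hc (hRC hr')) r hr).symm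

/-- The exponent is `p`. -/
theorem pow_eq_one_of_coset_class {p : ℕ} (hp : p.Prime) (hp2 : p ≠ 2) {R : Subgroup P} [R.Normal]
    (b : MulAut P) (hRtop : R ≠ ⊤) (hfix : ∀ r ∈ R, b r = r)
    (hmove : ∀ x, x⁻¹ * b x ∈ R → x ∈ R)
    (hcls : ∀ x, x ∉ R → ∀ r ∈ R, IsConj x (x * r))
    (hexp : ∀ x : P, x ^ p ∈ R) (hab : ∀ x y : P, ⁅x, y⁆ ∈ R) (x : P) : x ^ p = 1 := by
  obtain ⟨hRc, hcov⟩ := le_center_of_coset_class b hRtop hfix hmove hcls
  obtain ⟨x0, hx0⟩ : ∃ y, y ∉ R := SetLike.exists_not_mem_of_ne_top R hRtop rfl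
  have hRp : ∀ r ∈ R, r ^ p = 1 := by
    intro r hr
    obtain ⟨u, hu⟩ := isConj_iff.1 (hcls x0 hx0 r hr)
    have hrc : ∀ w, w * r = r * w := fun w => mem_center_iff.1 (hRc hr) w
    have hk : ∀ k : ℕ, u ^ k * x0 * (u ^ k)⁻¹ = x0 * r ^ k := by
      intro k
      induction k with
      | zero => simp
      | succ k ihk =>
        have hrk : u * r ^ k * u⁻¹ = r ^ k := by
          rw [((show Commute u r from hrc u).pow_right k).eq, mul_inv_cancel_right]
        calc u ^ (k + 1) * x0 * (u ^ (k + 1))⁻¹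
            = u * (u ^ k * x0 * (u ^ k)⁻¹) * u⁻¹ := by rw [pow_succ']; group
          _ = u * x0 * u⁻¹ * (u * r ^ k * u⁻¹) := by rw [ihk]; group
          _ = x0 * r ^ (k + 1) := by rw [hu, hrk, mul_assoc, ← pow_succ']
    have h1 := hk p
    rw [show u ^ p * x0 * (u ^ p)⁻¹ = x0 by
      rw [← mem_center_iff.1 (hRc (hexp u)) x0, mul_inv_cancel_right]] at h1
    exact left_eq_mul.1 h1
  have hu : ∀ u : P, (u⁻¹ * b u) ^ p = 1 := by
    intro u
    set w := u⁻¹ * b u with hw
    have hbu : b u = u * w := by rw [hw]; group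
    have h1 : b (u ^ p) = u ^ p := hfix _ (hexp u)
    rw [map_pow, hbu, CfsgLib.PGroups.mul_pow_of_central (hRc (hab w u)) p] at h1
    obtain ⟨k, hk⟩ := Nat.Prime.dvd_choose_self hp two_ne_zero
      (lt_of_le_of_ne hp.two_le (Ne.symm hp2))
    rw [hk, pow_mul, hRp _ (hab w u), one_pow, mul_one] at h1
    exact mul_eq_left.1 h1
  obtain ⟨u, r, hr, rfl⟩ := hcov x
  rw [Commute.mul_pow (show Commute (u⁻¹ * b u) r from mem_center_iff.1 (hRc hr) _), hu,
    hRp r hr, one_mul]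

end CfsgLib.CharApps.OneNonvanishing
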