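import Mathlib
import Cfsg.Agent.Lib.CharApps.OneNonvanishing.Pgroup

/-!
Groups `H` with an abelian normal subgroup `V` of exponent `p` whose nonidentity elements form
one class, with abelian quotient.
-/

set_option autoImplicit false
set_option linter.style.haveILetI false

open Subgroup
open scoped commutatorElement

namespace CfsgLib.CharApps.OneNonvanishing

universe u

/-- An abelian group of automorphisms of an abelian group, transitive on the nonzero elements,
is cyclic. -/
theorem isCyclic_of_transitive {V : Type*} [AddCommGroup V] {A : Type*} [Group A] [Finite A]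
    (f : A →* AddMonoid.End V) (hinj : Function.Injective f) (hcomm : ∀ a b : A, a * b = b * a)
    {v0 : V} (hv0 : v0 ≠ 0) (htrans : ∀ v : V, v ≠ 0 → ∃ a : A, f a v0 = v) : IsCyclic A := by
  let S : Subring (AddMonoid.End V) := Subring.centralizer (Set.range f)
  have hcomm' : ∀ s ∈ S, ∀ (a : A) (v : V), s (f a v) = f a (s v) := fun s hs a v =>
    (DFunLike.congr_fun (Subring.mem_centralizer_iff.1 hs _ ⟨a, rfl⟩) v).symm
  have hdet : ∀ s ∈ S, ∀ t ∈ S, s v0 = t v0 → s = t := by
    intro s hs t ht h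
    refine AddMonoidHom.ext fun v => ?_
    by_cases hv : v = 0
    · subst hv
      exact (map_zero (s : V →+ V)).trans (map_zero (t : V →+ V)).symm
    · obtain ⟨a, rfl⟩ := htrans v hv
      exact (hcomm' s hs a v0).trans ((congrArg (f a) h).trans (hcomm' t ht a v0).symm)
  have hmem : ∀ a, f a ∈ S := fun a => Subring.mem_centralizer_iff.2 (by
    rintro _ ⟨b, rfl⟩
    rw [← map_mul, ← map_mul, hcomm])
  have hcases : ∀ s ∈ S, s = 0 ∨ ∃ a, s = f a := by
    intro s hs
    by_cases h : s v0 = 0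
    · exact Or.inl (hdet s hs 0 (zero_mem S) h)
    · obtain ⟨a, ha⟩ := htrans _ h
      exact Or.inr ⟨a, hdet s hs _ (hmem a) ha.symm⟩
  letI : CommRing S :=
    { (inferInstance : Ring S) with
      mul_comm := fun s t => by
        apply Subtype.ext
        show (s : AddMonoid.End V) * t = t * s
        rcases hcases s s.2 with h | ⟨a, ha⟩
        · rw [h, zero_mul, mul_zero]
        · rw [ha]; exact Subring.mem_centralizer_iff.1 t.2 _ ⟨a, rfl⟩ }
  haveI : Nontrivial S := ⟨⟨⟨f 1, hmem 1⟩, 0, fun h => hv0 (by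
    have h1 : f 1 = 0 := congrArg Subtype.val h
    exact DFunLike.congr_fun ((map_one f).symm.trans h1) v0)⟩⟩
  haveI : NoZeroDivisors S := ⟨fun {s t} hst => by
    rcases hcases s s.2 with h | ⟨a, ha⟩
    · exact Or.inl (Subtype.ext h)
    · refine Or.inr (Subtype.ext ?_)
      have h' : (s : AddMonoid.End V) * (t : AddMonoid.End V) = 0 := congrArg Subtype.val hst
      rw [ha] at h'
      have := congrArg (f a⁻¹ * ·) h'
      simpa [← mul_assoc, ← map_mul] using this⟩
  haveI : IsDomain S := NoZeroDivisors.to_isDomain S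
  exact isCyclic_of_injective_ringHom (R := S)
    { toFun := fun a => ⟨f a, hmem a⟩
      map_one' := Subtype.ext (map_one f)
      map_mul' := fun a b => Subtype.ext (map_mul f a b) }
    fun a b h => hinj (congrArg Subtype.val h)

variable {H : Type u} [Group H] (V : Subgroup H)

/-- Elements commuting with one nonidentity element of `V` centralise `V`. -/
theorem commute_all {p : ℕ} (hab : ∀ a ∈ V, ∀ b ∈ V, a * b = b * a)
    (hcomm : ∀ a b : H, ⁅a, b⁆ ∈ V) (htrans : ∀ a ∈ V, a ≠ 1 → ∀ b ∈ V, b ≠ 1 → IsConj a b)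
    (_hp : ∀ a ∈ V, a ^ p = 1)
    {x w : H} (hw : w ∈ V) (hw1 : w ≠ 1) (hxw : x * w = w * x) :
    ∀ v ∈ V, x * v = v * x := by
  intro v hv
  by_cases hv1 : v = 1
  · simp [hv1]
  obtain ⟨a, rfl⟩ := isConj_iff.1 (htrans w hw hw1 v hv hv1)
  have h1 : x * (a * w * a⁻¹) * x⁻¹ = ⁅x, a⁆ * (a * (x * w * x⁻¹) * a⁻¹) * ⁅x, a⁆⁻¹ := by
    rw [commutatorElement_def]; group
  rw [show x * w * x⁻¹ = w by rw [hxw, mul_inv_cancel_right], hab _ (hcomm x a) _ hv,
    mul_inv_cancel_right] at h1
  exact mul_inv_eq_iff_eq_mul.1 h1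

/-- For `p` odd the centraliser of `V` is `V`. -/
theorem mem_of_centralizes {p : ℕ} (hp : p.Prime) (hp2 : p ≠ 2)
    (hab : ∀ a ∈ V, ∀ b ∈ V, a * b = b * a)
    (hcomm : ∀ a b : H, ⁅a, b⁆ ∈ V) (htrans : ∀ a ∈ V, a ≠ 1 → ∀ b ∈ V, b ≠ 1 → IsConj a b)
    (hexp : ∀ a ∈ V, a ^ p = 1) (hVne : V ≠ ⊥)
    (hcent : ∀ z : H, (∀ y, z * y = y * z) → z ∈ V)
    {x : H} (hx : ∀ v ∈ V, x * v = v * x) : x ∈ V := by
  obtain ⟨w, hw, hw1⟩ : ∃ w ∈ V, w ≠ 1 := by
    by_contra hno
    push Not at hno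
    exact hVne ((eq_bot_iff_forall V).2 hno)
  obtain ⟨h, hh⟩ := isConj_iff.1 (htrans w hw hw1 w⁻¹ (inv_mem hw) (inv_ne_one.2 hw1))
  -- `h` inverts `V`
  have hinv : ∀ v ∈ V, h * v * h⁻¹ = v⁻¹ := by
    intro v hv
    by_cases hv1 : v = 1
    · simp [hv1]
    obtain ⟨a, rfl⟩ := isConj_iff.1 (htrans w hw hw1 v hv hv1)
    have h1 : h * (a * w * a⁻¹) * h⁻¹ = ⁅h, a⁆ * (a * (h * w * h⁻¹) * a⁻¹) * ⁅h, a⁆⁻¹ := by
      rw [commutatorElement_def]; group
    rw [hh, show a * w⁻¹ * a⁻¹ = (a * w * a⁻¹)⁻¹ by group, hab _ (hcomm h a) _ (inv_mem hv),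
      mul_inv_cancel_right] at h1
    exact h1
  obtain ⟨k, hk⟩ := hp.odd_of_ne_two hp2
  have hc : ⁅h, x⁆ ∈ V := hcomm h x
  set c := ⁅h, x⁆ with hcdef
  set v := c ^ (k + 1) with hvdef
  have hvV : v ∈ V := pow_mem hc _
  have hv2 : v⁻¹ * c = v := by
    rw [inv_mul_eq_iff_eq_mul, hvdef, ← pow_add, show k + 1 + (k + 1) = p + 1 by omega, pow_succ,
      hexp c hc, one_mul]
  -- `x' = v * x` is fixed by `h`
  have hfix : h * (v * x) * h⁻¹ = v * x := by
    calc h * (v * x) * h⁻¹ = h * v * h⁻¹ * (h * x * h⁻¹ * x⁻¹) * x := by group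
      _ = v⁻¹ * c * x := by rw [hinv v hvV, hcdef, commutatorElement_def]
      _ = v * x := by rw [hv2]
  have hx' : ∀ u ∈ V, (v * x) * u = u * (v * x) := by
    intro u hu
    rw [mul_assoc, hx u hu, ← mul_assoc, hab v hvV u hu, mul_assoc]
  have hcen : ∀ a, (v * x) * a = a * (v * x) := by
    intro a
    set x' := v * x with hx'def
    set d := ⁅a, x'⁆ with hd
    have hdV : d ∈ V := hcomm a x'
    set v0 := ⁅h, a⁆ with hv0
    have hv0V : v0 ∈ V := hcomm h a
    have h1 : h * d * h⁻¹ = ⁅v0 * a, x'⁆ := by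
      rw [hd, commutatorElement_def a x']
      calc h * (a * x' * a⁻¹ * x'⁻¹) * h⁻¹
          = (h * a * h⁻¹) * (h * x' * h⁻¹) * (h * a * h⁻¹)⁻¹ * (h * x' * h⁻¹)⁻¹ := by group
        _ = _ := by
            rw [hfix, hv0, commutatorElement_def h a, commutatorElement_def]; group
    have h2 : ⁅v0 * a, x'⁆ = d := by
      have h3 : ⁅v0 * a, x'⁆ = v0 * d * (x' * v0⁻¹) * x'⁻¹ := by
        rw [hd, commutatorElement_def, commutatorElement_def]; group
      rw [h3, hx' v0⁻¹ (inv_mem hv0V), hab v0 hv0V d hdV]; group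
    rw [hinv d hdV, h2] at h1
    have hd1 : d = 1 := by
      have h4 : d ^ 2 = 1 := by rw [pow_two]; exact mul_eq_one_iff_inv_eq.2 h1
      have h5 := hexp d hdV
      rw [hk, pow_succ, pow_mul, h4, one_pow, one_mul] at h5
      exact h5
    exact (commutatorElement_eq_one_iff_mul_comm.1 hd1).symm
  have := mul_mem (inv_mem hvV) (hcent _ hcen)
  rwa [inv_mul_cancel_left] at this

/-- For `p` odd: `H / V` is cyclic of order `|V| - 1`, and elements moving one element of `V`
move them all. -/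
theorem exists_generator [Finite H] [V.Normal] {p : ℕ} (hp : p.Prime) (hp2 : p ≠ 2)
    (hab : ∀ a ∈ V, ∀ b ∈ V, a * b = b * a)
    (hcomm : ∀ a b : H, ⁅a, b⁆ ∈ V) (htrans : ∀ a ∈ V, a ≠ 1 → ∀ b ∈ V, b ≠ 1 → IsConj a b)
    (hexp : ∀ a ∈ V, a ^ p = 1) (hVne : V ≠ ⊥)
    (hcent : ∀ z : H, (∀ y, z * y = y * z) → z ∈ V) :
    V.index = Nat.card V - 1 ∧
      ∃ a : H, ∀ k : ℕ, a ^ k ∈ V ↔ V.index ∣ k := by
  classical
  obtain ⟨w, hw, hw1⟩ : ∃ w ∈ V, w ≠ 1 := by
    by_contra hno
    push Not at hno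
    exact hVne ((eq_bot_iff_forall V).2 hno)
  have hCw : centralizer ({w} : Set H) = V := by
    refine le_antisymm (fun x hx => ?_) fun x hx =>
      mem_centralizer_singleton_iff.2 (hab x hx w hw)
    exact mem_of_centralizes V hp hp2 hab hcomm htrans hexp hVne hcent
      (commute_all V hab hcomm htrans hexp hw hw1 (mem_centralizer_singleton_iff.1 hx))
  have hidx : V.index = Nat.card V - 1 := by
    rw [← congrArg Subgroup.index hCw, CfsgLib.Chars.index_centralizer_eq w]
    rw [show Nat.card V - 1 = Nat.card {v : V // v ≠ 1} by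
      haveI := Fintype.ofFinite V
      rw [Nat.card_eq_fintype_card, Nat.card_eq_fintype_card, Fintype.card_subtype_compl,
        Fintype.card_subtype_eq]]
    refine Nat.card_congr
      { toFun := fun x => ⟨⟨x.1, ?_⟩, ?_⟩
        invFun := fun v => ⟨(v.1 : H), htrans w hw hw1 _ v.1.2 fun h => v.2 (Subtype.ext h)⟩
        left_inv := fun x => rfl
        right_inv := fun v => rfl }
    · obtain ⟨c, hc⟩ := isConj_iff.1 x.2
      exact hc ▸ ‹V.Normal›.conj_mem w hw c
    · intro h
      obtain ⟨c, hc⟩ := isConj_iff.1 x.2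
      have : c * w * c⁻¹ = 1 := hc.trans (congrArg Subtype.val h)
      exact hw1 (conj_eq_one_iff.1 this)
  refine ⟨hidx, ?_⟩
  -- the action on `V` factors through `H ⧸ V`
  letI : CommGroup V := { (inferInstance : Group V) with
    mul_comm := fun a b => Subtype.ext (hab a a.2 b b.2) }
  let act : H →* AddMonoid.End (Additive V) :=
    { toFun := fun x => MonoidHom.toAdditive (MulAut.conjNormal (H := V) x).toMonoidHom
      map_one' := AddMonoidHom.ext fun v => by
        apply Additive.toMul.injective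
        exact DFunLike.congr_fun (map_one (MulAut.conjNormal (H := V))) v.toMul
      map_mul' := fun x y => AddMonoidHom.ext fun v => by
        apply Additive.toMul.injective
        exact DFunLike.congr_fun (map_mul (MulAut.conjNormal (H := V)) x y) v.toMul }
  have hval : ∀ (x : H) (v : V), ((act x (Additive.ofMul v)).toMul : H) = x * v * x⁻¹ :=
    fun x v => MulAut.conjNormal_apply x v
  have hker : ∀ x, x ∈ V → act x = 1 := by
    intro x hx
    refine AddMonoidHom.ext fun v => ?_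
    apply Additive.toMul.injective
    apply Subtype.ext
    refine (hval x v.toMul).trans ?_
    rw [hab x hx _ v.toMul.2, mul_inv_cancel_right]
    rfl
  let f : H ⧸ V →* AddMonoid.End (Additive V) := QuotientGroup.lift V act fun x hx => hker x hx
  have hinj : Function.Injective f := by
    refine (injective_iff_map_eq_one f).2 fun q hq => ?_
    obtain ⟨x, rfl⟩ := QuotientGroup.mk'_surjective V q
    refine (QuotientGroup.eq_one_iff x).2 ?_
    have h1 : act x = 1 := hq
    have h2 := hval x ⟨w, hw⟩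
    rw [h1] at h2
    exact hCw ▸ mem_centralizer_singleton_iff.2 (mul_inv_eq_iff_eq_mul.1 h2.symm)
  have hcomm' : ∀ a b : H ⧸ V, a * b = b * a := by
    intro a b
    obtain ⟨x, rfl⟩ := QuotientGroup.mk'_surjective V a
    obtain ⟨y, rfl⟩ := QuotientGroup.mk'_surjective V b
    rw [← commutatorElement_eq_one_iff_mul_comm, ← map_commutatorElement]
    exact (QuotientGroup.eq_one_iff _).2 (hcomm x y)
  haveI : IsCyclic (H ⧸ V) := isCyclic_of_transitive f hinj hcomm'
    (v0 := Additive.ofMul (⟨w, hw⟩ : V))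
    (fun h => hw1 (congrArg Subtype.val (Additive.ofMul.injective (h.trans ofMul_one.symm))))
    fun v hv => by
      obtain ⟨c, hc⟩ := isConj_iff.1 (htrans w hw hw1 (v.toMul : H) v.toMul.2 fun h => hv (by
        apply Additive.toMul.injective; exact Subtype.ext h))
      refine ⟨QuotientGroup.mk' V c, ?_⟩
      apply Additive.toMul.injective
      exact Subtype.ext ((hval c ⟨w, hw⟩).trans hc)
  obtain ⟨q, hq⟩ := IsCyclic.exists_ofOrder_eq_natCard (α := H ⧸ V)
  obtain ⟨a, rfl⟩ := QuotientGroup.mk'_surjective V q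
  refine ⟨a, fun k => ?_⟩
  rw [← QuotientGroup.eq_one_iff, QuotientGroup.mk_pow]
  rw [show V.index = orderOf (QuotientGroup.mk' V a) from hq.symm]
  exact orderOf_dvd_iff_pow_eq_one.symm

/-- A number divisible by `p ^ d - 1` for proper divisors `d` of `e` but not by `p ^ e - 1`. -/
theorem exists_exponent {p e : ℕ} (hp : 3 ≤ p) (he : e ≠ 0) :
    ∃ N, (∀ d ∈ e.properDivisors, p ^ d - 1 ∣ N) ∧ ¬ p ^ e - 1 ∣ N := by
  rcases Nat.lt_or_ge 1 e with h1 | h1
  · set Φ := ((Polynomial.cyclotomic e ℤ).eval (p : ℤ)).natAbs with hΦ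
    have hΦ2 : 1 < Φ := by
      have := Polynomial.sub_one_lt_natAbs_cyclotomic_eval (n := e) (q := p) h1 (by omega)
      omega
    have hdvd : ∀ d ∈ e.properDivisors, (p ^ d - 1) * Φ ∣ p ^ e - 1 := by
      intro d hd
      have h := Polynomial.eval_dvd (x := (p : ℤ))
        (Polynomial.X_pow_sub_one_mul_cyclotomic_dvd_X_pow_sub_one_of_dvd ℤ hd)
      simp only [Polynomial.eval_mul, Polynomial.eval_sub, Polynomial.eval_pow, Polynomial.eval_X,
        Polynomial.eval_one] at h
      have h' := Int.natAbs_dvd_natAbs.2 h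
      rw [Int.natAbs_mul] at h'
      have hpk : ∀ k : ℕ, ((p : ℤ) ^ k - 1).natAbs = p ^ k - 1 := by
        intro k
        rw [show ((p : ℤ) ^ k - 1) = ((p ^ k - 1 : ℕ) : ℤ) by
          rw [Nat.cast_sub (Nat.one_le_pow _ _ (by omega)), Nat.cast_pow, Nat.cast_one]]
        exact Int.natAbs_natCast _
      rwa [hpk, hpk] at h'
    have hΦd : Φ ∣ p ^ e - 1 := (dvd_mul_left Φ _).trans
      (hdvd 1 (Nat.mem_properDivisors.2 ⟨one_dvd e, h1⟩))
    obtain ⟨N, hN⟩ := hΦd
    have hpos : 0 < p ^ e - 1 := Nat.sub_pos_of_lt (Nat.one_lt_pow he (by omega))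
    refine ⟨N, fun d hd => ?_, fun h => ?_⟩
    · have := hdvd d hd
      rw [hN, mul_comm Φ N] at this
      exact Nat.dvd_of_mul_dvd_mul_right (by omega) this
    · have hN0 : 0 < N := Nat.pos_of_ne_zero fun h0 => by rw [h0, mul_zero] at hN; omega
      have := Nat.le_of_dvd hN0 h
      rw [hN] at this
      nlinarith
  · obtain rfl : e = 1 := by omega
    refine ⟨1, fun d hd => absurd hd (by simp [Nat.properDivisors_one]), fun h => ?_⟩
    have := Nat.dvd_one.1 h
    rw [pow_one] at this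
    omega

end CfsgLib.CharApps.OneNonvanishing
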