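import Mathlib
import Cfsg.Agent.Lib.CharApps.OneNonvanishing.Abstract
import Cfsg.Agent.Lib.FgsC.Hughes
import Cfsg.Agent.Lib.Transfer.Tate
import Cfsg.Agent.Lib.Coprime.Action2
import Cfsg.Agent.Lib.FT.OddOrderTheorem

/-!
Groups in which the part of the derived subgroup outside a normal subgroup is one class.
-/

set_option autoImplicit false
set_option linter.style.haveILetI false

open Subgroup
open scoped commutatorElement

namespace CfsgLib.CharApps.OneNonvanishing

universe u

/-- If every element of `commutator G` outside `K` is conjugate to `g` and only elements of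
`commutator G` are central modulo `K`, then `G` is solvable. -/
theorem isSolvable_of_class {G : Type u} [Group G] [Finite G] (K : Subgroup G) [K.Normal]
    (hK : K ≤ commutator G) {g : G} (hgG : g ∈ commutator G) (hgK : g ∉ K)
    (hclass : ∀ x ∈ commutator G, x ∉ K → IsConj g x)
    (hcent : ∀ z, (∀ y, ⁅z, y⁆ ∈ K) → z ∈ commutator G) : Group.IsSolvable G := by
  classical
  set π := QuotientGroup.mk' K with hπ
  have hsurj : Function.Surjective π := QuotientGroup.mk'_surjective K
  have hπ1 : ∀ x, π x = 1 ↔ x ∈ K := fun x => QuotientGroup.eq_one_iff x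
  set V := (commutator G).map π with hV
  haveI hVn : V.Normal := (inferInstance : (commutator G).Normal).map π hsurj
  have hcomap : V.comap π = commutator G :=
    comap_map_eq_self (by rw [hπ, QuotientGroup.ker_mk']; exact hK)
  have hmem : ∀ x, π x ∈ V ↔ x ∈ commutator G := fun x => by
    rw [← Subgroup.mem_comap, hcomap]
  have hcommV : ∀ a b : G ⧸ K, ⁅a, b⁆ ∈ V := by
    intro a b
    obtain ⟨x, rfl⟩ := hsurj a
    obtain ⟨y, rfl⟩ := hsurj b
    rw [← map_commutatorElement, hmem, _root_.commutator_def]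
    exact commutator_mem_commutator (mem_top x) (mem_top y)
  have hgV : π g ∈ V := (hmem g).2 hgG
  have hg1 : π g ≠ 1 := fun h => hgK ((hπ1 g).1 h)
  have htrans : ∀ a ∈ V, a ≠ 1 → ∀ b ∈ V, b ≠ 1 → IsConj a b := by
    have h0 : ∀ a ∈ V, a ≠ 1 → IsConj (π g) a := by
      intro a ha ha1
      obtain ⟨x, rfl⟩ := hsurj a
      exact π.map_isConj (hclass x ((hmem x).1 ha) fun h => ha1 ((hπ1 x).2 h))
    intro a ha ha1 b hb hb1
    exact (h0 a ha ha1).symm.trans (h0 b hb hb1)
  have hcentV : ∀ z : G ⧸ K, (∀ y, z * y = y * z) → z ∈ V := by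
    intro z hz
    obtain ⟨x, rfl⟩ := hsurj z
    refine (hmem x).2 (hcent x fun y => (hπ1 _).1 ?_)
    rw [map_commutatorElement, commutatorElement_eq_one_iff_mul_comm]
    exact hz (π y)
  -- the prime
  obtain ⟨p, hp, hpd⟩ := Nat.exists_prime_and_dvd (n := orderOf (π g))
    (fun h => hg1 (orderOf_eq_one_iff.1 h))
  haveI := Fact.mk hp
  have hordg : orderOf (π g) = p := by
    have hw1 : π g ^ (orderOf (π g) / p) ≠ 1 := fun h => by
      have h1 := orderOf_pow_orderOf_div (orderOf_pos (π g)).ne' hpd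
      rw [h, orderOf_one] at h1
      exact hp.ne_one h1.symm
    obtain ⟨c, hc⟩ := isConj_iff.1 (htrans _ hgV hg1 _ (pow_mem hgV _) hw1)
    rw [← orderOf_pow_orderOf_div (orderOf_pos (π g)).ne' hpd, ← hc, ← MulAut.conj_apply,
      MulEquiv.orderOf_eq]
  have hexp : ∀ a ∈ V, a ^ p = 1 := by
    intro a ha
    by_cases ha1 : a = 1
    · simp [ha1]
    obtain ⟨c, hc⟩ := isConj_iff.1 (htrans _ hgV hg1 a ha ha1)
    have : orderOf a = p := by rw [← hc, ← MulAut.conj_apply, MulEquiv.orderOf_eq, hordg]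
    exact this ▸ pow_orderOf_eq_one a
  have hVp : IsPGroup p V := fun v => ⟨1, Subtype.ext (by simpa using hexp v v.2)⟩
  have hVne : V ≠ ⊥ := fun h => hg1 (Subgroup.mem_bot.1 (h ▸ hgV))
  haveI : Nontrivial V := (nontrivial_iff_ne_bot V).2 hVne
  have hab : ∀ a ∈ V, ∀ b ∈ V, a * b = b * a := by
    haveI := hVp.center_nontrivial
    obtain ⟨w, hw1⟩ := exists_ne (1 : center V)
    have hw1' : ((w : V) : G ⧸ K) ≠ 1 := fun h => hw1 (Subtype.ext (Subtype.ext h))
    intro a ha b hb
    by_cases ha1 : a = 1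
    · simp [ha1]
    obtain ⟨c, hc⟩ := isConj_iff.1 (htrans _ (w : V).2 hw1' a ha ha1)
    have h1 : ((w : V) : G ⧸ K) * (c⁻¹ * b * c) = c⁻¹ * b * c * ((w : V) : G ⧸ K) :=
      congrArg Subtype.val (mem_center_iff.1 w.2 ⟨c⁻¹ * b * c, by
        simpa using hVn.conj_mem b hb c⁻¹⟩).symm
    calc a * b = c * (((w : V) : G ⧸ K) * (c⁻¹ * b * c)) * c⁻¹ := by rw [← hc]; group
      _ = c * (c⁻¹ * b * c * ((w : V) : G ⧸ K)) * c⁻¹ := by rw [h1]
      _ = b * a := by rw [← hc]; group
  -- solvability of `K` suffices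
  have hred : Group.IsSolvable K → Group.IsSolvable G := by
    intro hKs
    haveI := hKs
    haveI : Group.IsNilpotent V := hVp.isNilpotent
    haveI : IsMulCommutative ((G ⧸ K) ⧸ V) :=
      Subgroup.Normal.quotient_commutative_iff_commutator_le.2 (by
        rw [_root_.commutator_def, commutator_le]; exact fun a _ b _ => hcommV a b)
    haveI : Group.IsSolvable ((G ⧸ K) ⧸ V) :=
      Group.isSolvable_of_comm fun a b => mul_comm' a b
    haveI : Group.IsSolvable (G ⧸ K) :=
      Group.isSolvable_of_ker_le_range V.subtype (QuotientGroup.mk' V)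
        (by rw [QuotientGroup.ker_mk', Subgroup.range_subtype])
    exact Group.isSolvable_of_ker_le_range K.subtype π (by rw [hπ, QuotientGroup.ker_mk', Subgroup.range_subtype])
  apply hred
  -- centraliser orders
  have hVidx : Nat.card (commutator G) = Nat.card K * Nat.card V := by
    have h1 := card_mul_index K
    have h2 := card_mul_index (commutator G)
    have h3 := card_mul_index V
    have h4 : V.index = (commutator G).index := by rw [← hcomap, index_comap_of_surjective V hsurj]
    have h5 : Nat.card (G ⧸ K) = K.index := (Subgroup.index_eq_card K).symm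
    have h6 : 0 < (commutator G).index := Nat.pos_of_ne_zero index_ne_zero_of_finite
    rw [h4, h5] at h3
    rw [← h3, ← h2, ← mul_assoc] at h1
    exact (Nat.eq_of_mul_eq_mul_right h6 h1).symm
  have hcardC : ∀ x ∈ commutator G, x ∉ K →
      Nat.card (centralizer ({x} : Set G)) ∣ Nat.card (G ⧸ K) := by
    intro x hx hxK
    have hcls : Nat.card {y : G // IsConj x y} = Nat.card K * (Nat.card V - 1) := by
      have e : {y : G // IsConj x y} ≃ {z : commutator G // (z : G) ∉ K} :=
        { toFun := fun y => ⟨⟨y.1, by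
            obtain ⟨c, hc⟩ := isConj_iff.1 y.2
            exact hc ▸ (inferInstance : (commutator G).Normal).conj_mem x hx c⟩, by
            obtain ⟨c, hc⟩ := isConj_iff.1 y.2
            intro h
            apply hxK
            have := ‹K.Normal›.conj_mem _ h c⁻¹
            simpa [← hc, mul_assoc] using this⟩
          invFun := fun z => ⟨z.1.1, (hclass x hx hxK).symm.trans (hclass _ z.1.2 z.2)⟩
          left_inv := fun y => rfl
          right_inv := fun z => rfl }
      rw [Nat.card_congr e, Nat.mul_sub, mul_one, ← hVidx]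
      haveI := Fintype.ofFinite (commutator G)
      rw [Nat.card_eq_fintype_card, Fintype.card_subtype_compl, ← Nat.card_eq_fintype_card,
        ← Nat.card_eq_fintype_card]
      congr 1
      exact Nat.card_congr
        { toFun := fun z => ⟨z.1.1, z.2⟩
          invFun := fun k => ⟨⟨k.1, hK k.2⟩, k.2⟩
          left_inv := fun z => rfl
          right_inv := fun k => rfl }
    have h := CfsgLib.Chars.card_isConj_mul_card_centralizer x
    rw [hcls, Subgroup.card_eq_card_quotient_mul_card_subgroup K, mul_comm (Nat.card (G ⧸ K)),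
      mul_assoc] at h
    exact ⟨Nat.card V - 1, by rw [← Nat.eq_of_mul_eq_mul_left Nat.card_pos h, mul_comm]⟩
  obtain ⟨P⟩ : Nonempty (Sylow p G) := inferInstance
  set P' : Subgroup (G ⧸ K) := (P : Subgroup G).map π with hP'
  have hP'p : IsPGroup p P' := P.isPGroup'.map π
  have hVP : V ≤ P' := by
    have hmax : P' ⊔ V = ((P.mapSurjective hsurj : Sylow p (G ⧸ K)) : Subgroup (G ⧸ K)) :=
      (P.mapSurjective hsurj).is_maximal' (hP'p.to_sup_of_normal_right hVp) le_sup_left
    rw [show P' = ((P.mapSurjective hsurj : Sylow p (G ⧸ K)) : Subgroup (G ⧸ K)) from rfl, ← hmax]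
    exact le_sup_right
  set R : Subgroup P := K.subgroupOf P with hR
  haveI : R.Normal := inferInstance
  have hRidx : R.index = Nat.card P' := by
    have hk : (π.comp (P : Subgroup G).subtype).ker = R := by
      ext x; simp [hR, hπ, Subgroup.mem_subgroupOf]
    rw [← hk, Subgroup.index_ker, hP', MonoidHom.range_comp, Subgroup.range_subtype]
  -- elements outside `K` central modulo `K` in `P`
  have hclassP : ∀ x : P, (x : G) ∈ commutator G → (x : G) ∉ K →
      (∀ u : P, u * x * u⁻¹ * x⁻¹ ∈ R) → ∀ r ∈ R, IsConj x (x * r) := by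
    intro x hx hxK hcx r hr
    have hsub : ∀ y : {y : P // IsConj x y}, x⁻¹ * y.1 ∈ R := by
      intro y
      obtain ⟨u, hu⟩ := isConj_iff.1 y.2
      have := ‹R.Normal›.conj_mem _ (hcx u) x⁻¹
      rw [← hu]
      simpa [mul_assoc] using this
    have hge : Nat.card R ≤ Nat.card {y : P // IsConj x y} := by
      have hd : Nat.card (centralizer ({x} : Set P)) ∣ Nat.card P' := by
        have h1 : Nat.card (centralizer ({x} : Set P)) ∣ Nat.card (G ⧸ K) := by
          refine dvd_trans ?_ (hcardC x hx hxK)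
          rw [← CfsgLib.Base.card_map_subtype]
          refine card_dvd_of_le ?_
          rintro _ ⟨y, hy, rfl⟩
          exact mem_centralizer_singleton_iff.2
            (congrArg Subtype.val (mem_centralizer_singleton_iff.1 hy))
        obtain ⟨k, hk⟩ := (P.isPGroup'.to_subgroup (centralizer ({x} : Set P))).exists_card_eq
        rw [hk] at h1 ⊢
        exact (P.mapSurjective hsurj).pow_dvd_card_of_pow_dvd_card h1
      have h2 := card_mul_index R
      have h3 := CfsgLib.Chars.card_isConj_mul_card_centralizer x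
      rw [hRidx] at h2
      have h4 := Nat.le_of_dvd Nat.card_pos hd
      have h5 : 0 < Nat.card (centralizer ({x} : Set P)) := Nat.card_pos
      have h6 : Nat.card R * Nat.card P' =
          Nat.card {y : P // IsConj x y} * Nat.card (centralizer ({x} : Set P)) := h2.trans h3.symm
      nlinarith
    have hinj : Function.Injective
        (fun y : {y : P // IsConj x y} => (⟨x⁻¹ * y.1, hsub y⟩ : R)) := fun a b h =>
      Subtype.ext (mul_left_cancel (congrArg Subtype.val h))
    obtain ⟨y, hy⟩ := (hinj.bijective_of_nat_card_le hge).2 ⟨r, hr⟩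
    have : x⁻¹ * y.1 = r := congrArg Subtype.val hy
    rw [← this, mul_inv_cancel_left]
    exact y.2
  have hfrat : ∀ x : P, (∀ r ∈ R, IsConj x (x * r)) → R ≤ frattini P := by
    intro x hx r hr
    obtain ⟨u, hu⟩ := isConj_iff.1 (hx r hr)
    refine CfsgLib.PGroups.commutator_le_frattini P.isPGroup' ?_
    rw [show r = ⁅x⁻¹, u⁆ by rw [commutatorElement_def, inv_inv, mul_assoc x⁻¹, mul_assoc x⁻¹, hu,
      inv_mul_cancel_left], _root_.commutator_def]
    exact commutator_mem_commutator (mem_top _) (mem_top _)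
  -- a witness
  obtain ⟨z, hzG, hzK, hzc⟩ : ∃ z : P, (z : G) ∈ commutator G ∧ (z : G) ∉ K ∧
      ∀ u : P, u * z * u⁻¹ * z⁻¹ ∈ R := by
    haveI : (V.subgroupOf P').Normal := inferInstance
    have hne : V.subgroupOf P' ≠ ⊥ := fun h =>
      hVne (by rw [← Subgroup.map_subgroupOf_eq_of_le hVP, h, Subgroup.map_bot])
    obtain ⟨c, hc, hc1⟩ : ∃ c ∈ V.subgroupOf P' ⊓ center P', c ≠ 1 := by
      by_contra hno
      push Not at hno
      exact CfsgLib.PGroups.inf_center_ne_bot hP'p hne ((eq_bot_iff_forall _).2 hno)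
    obtain ⟨z, hz, hzc⟩ := c.2
    refine ⟨⟨z, hz⟩, (hmem z).1 (hzc ▸ hc.1), fun h => hc1 (Subtype.ext ?_), fun u => ?_⟩
    · rw [← hzc]; exact (hπ1 z).2 h
    · show (u : G) * z * (u : G)⁻¹ * z⁻¹ ∈ K
      rw [← hπ1, map_mul, map_mul, map_mul, map_inv, map_inv, hzc]
      have := congrArg Subtype.val (mem_center_iff.1 hc.2 ⟨π u, mem_map_of_mem π u.2⟩)
      simp only [Subgroup.coe_mul] at this
      rw [this, mul_inv_cancel_right, mul_inv_cancel]
  have hRfrat : R ≤ frattini P := hfrat z (hclassP z hzG hzK hzc)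
  by_cases hp2 : p = 2
  · -- the normal `2`-complement has odd order
    subst hp2
    have hT : Cfsg.HasNormalPComplement 2 K :=
      CfsgLib.Transfer.hasNormalPComplement_of_inf_le_frattini P K (by
        intro x hx
        exact ⟨⟨x, hx.2⟩, hRfrat hx.1, rfl⟩)
    obtain ⟨Q, N, hN, hNQ⟩ := hT
    haveI := hN
    haveI : Group.IsSolvable N := CfsgLib.FT.isSolvable_of_odd (by
      rw [Nat.odd_iff, ← Nat.two_dvd_ne_zero, ← hNQ.index_eq_card]
      exact Q.not_dvd_index)
    haveI : Group.IsNilpotent (K ⧸ N) :=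
      (IsPGroup.of_equiv Q.isPGroup' hNQ.symm.QuotientMulEquiv.symm).isNilpotent
    exact Group.isSolvable_of_ker_le_range N.subtype (QuotientGroup.mk' N)
      (by rw [QuotientGroup.ker_mk', Subgroup.range_subtype])
  -- `p` odd
  obtain ⟨hidx, a, ha⟩ := exists_generator V hp hp2 hab hcommV htrans hexp hVne hcentV
  obtain ⟨e, he⟩ := hVp.exists_card_eq
  have he0 : e ≠ 0 := by
    rintro rfl
    rw [pow_zero] at he
    exact hVne (eq_bot_of_card_eq V he)
  have hp3 : 3 ≤ p := by have := hp.two_le; omega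
  have hpidx : ¬ p ∣ V.index := by
    rw [hidx, he]
    intro hd
    have h1 : p ∣ p ^ e := dvd_pow_self p he0
    have h2 : 1 ≤ p ^ e := Nat.one_le_pow _ _ hp.pos
    have := Nat.dvd_sub h1 hd
    rw [Nat.sub_sub_self h2] at this
    exact hp.ne_one (Nat.dvd_one.1 this)
  have hP'V : P' = V := by
    refine le_antisymm (fun x hx => ?_) hVP
    obtain ⟨k, hk⟩ := hP'p ⟨x, hx⟩
    have hk' : x ^ p ^ k = 1 := congrArg Subtype.val hk
    rw [← QuotientGroup.eq_one_iff]
    refine orderOf_eq_one_iff.1 (Nat.dvd_one.1 ?_)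
    have h1 : orderOf (x : (G ⧸ K) ⧸ V) ∣ p ^ k :=
      orderOf_dvd_of_pow_eq_one (by rw [← QuotientGroup.mk_pow, hk']; rfl)
    have h2 : orderOf (x : (G ⧸ K) ⧸ V) ∣ V.index := by
      rw [Subgroup.index_eq_card]; exact orderOf_dvd_natCard _
    have := Nat.dvd_gcd h1 h2
    rwa [((hp.coprime_iff_not_dvd.2 hpidx).pow_left k).gcd_eq_one] at this
  have hPcomm : (P : Subgroup G) ≤ commutator G := fun x hx =>
    (hmem x).1 (hP'V ▸ mem_map_of_mem π hx)
  -- all elements of `P` outside `R`
  have hR' : ∀ x : P, x ∈ R ↔ π x = 1 := fun x => by rw [hπ1]; exact Iff.rfl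
  have hπV : ∀ x : P, π x ∈ V := fun x => (hmem _).2 (hPcomm x.2)
  have hcls : ∀ x : P, x ∉ R → ∀ r ∈ R, IsConj x (x * r) := fun x hx =>
    hclassP x (hPcomm x.2) hx fun u => (hR' _).2 (by
      show π ((u : G) * x * (u : G)⁻¹ * (x : G)⁻¹) = 1
      rw [map_mul, map_mul, map_mul, map_inv, map_inv, hab _ (hπV u) _ (hπV x), mul_inv_cancel_right, mul_inv_cancel])
  -- an element of `p'`-order inducing a generator
  obtain ⟨a0, rfl⟩ := hsurj a
  obtain ⟨n, hn, c, hc, rfl⟩ := mem_sup_of_normal_right.1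
    ((Sylow.normalizer_sup_eq_top' P hPcomm).ge (mem_top a0))
  have hord : ∀ k : ℕ, (π n) ^ k ∈ V ↔ V.index ∣ k := by
    intro k
    rw [← ha k, ← QuotientGroup.eq_one_iff, ← QuotientGroup.eq_one_iff, QuotientGroup.mk_pow,
      QuotientGroup.mk_pow, map_mul π n c, QuotientGroup.mk_mul,
      (QuotientGroup.eq_one_iff (π c)).2 ((hmem c).2 hc), mul_one]
  obtain ⟨t, m, hm, hnm⟩ := Nat.exists_eq_pow_mul_and_not_dvd (orderOf_pos n).ne' p hp.ne_one
  set α := n ^ p ^ t with hα
  have hαN : α ∈ normalizer ((P : Subgroup G) : Set G) := pow_mem hn _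
  have hαm : α ^ m = 1 := by rw [hα, ← pow_mul, ← hnm, pow_orderOf_eq_one]
  have hαord : ∀ k : ℕ, (π α) ^ k ∈ V ↔ V.index ∣ k := by
    intro k
    rw [hα, map_pow, ← pow_mul, hord]
    exact ((hp.coprime_iff_not_dvd.2 hpidx).symm.pow_right t).dvd_mul_left
  have hmap : (P : Subgroup G).map (MulAut.conj α).toMonoidHom = P :=
    CfsgLib.Base.map_conj_eq_self_iff.2 hαN
  set φ : MulAut P := CfsgLib.Base.FPFAut.restrict (MulAut.conj α) hmap with hφ
  have hφk : ∀ (k : ℕ) (x : P), ((φ ^ k) x : G) = α ^ k * x * (α ^ k)⁻¹ := fun k x => by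
    rw [hφ, CfsgLib.Base.FPFAut.coe_restrict_pow, ← map_pow, MulAut.conj_apply]
  -- `φ ^ (p ^ e - 1) = 1`
  have hidx' : V.index = p ^ e - 1 := by rw [hidx, he]
  have hφ1 : φ ^ (p ^ e - 1) = 1 := by
    set c' := α ^ (p ^ e - 1) with hc'
    have hcV : π c' ∈ V := by rw [hc', map_pow, hαord, hidx']
    have hcen : zpowers c' ≤ centralizer ((P : Subgroup G) : Set G) := by
      refine CfsgLib.Coprime.le_centralizer_of_trivial_mod_frattini
        (zpowers_le.2 (pow_mem hαN _)) ?_ ?_
      · obtain ⟨k, hk⟩ := (P.isPGroup'.to_subgroup (frattini (P : Subgroup G))).exists_card_eq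
        rw [hk, Nat.card_zpowers]
        refine Nat.Coprime.pow_right k (hp.coprime_iff_not_dvd.2 fun hd => hm ?_).symm
        refine hd.trans (orderOf_dvd_of_pow_eq_one ?_)
        rw [hc', ← pow_mul, mul_comm, pow_mul, hαm, one_pow]
      · intro b hb x hx
        have hbN : b * x * b⁻¹ ∈ (P : Subgroup G) :=
          (mem_normalizer_iff.1 (zpowers_le.2 (pow_mem hαN _) hb) x).1 hx
        refine ⟨⟨b * x * b⁻¹ * x⁻¹, mul_mem hbN (inv_mem hx)⟩, hRfrat ((hR' _).2 ?_), rfl⟩
        have hbV : π b ∈ V := by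
          obtain ⟨k, rfl⟩ := hb
          rw [map_zpow]; exact zpow_mem hcV k
        show π (b * x * b⁻¹ * x⁻¹) = 1
        rw [map_mul, map_mul, map_mul, map_inv, map_inv,
          hab _ hbV _ ((hmem x).2 (hPcomm hx)), mul_inv_cancel_right, mul_inv_cancel]
    refine MulEquiv.ext fun x => Subtype.ext ?_
    rw [hφk, ← hc', ← mem_centralizer_iff.1 (hcen (mem_zpowers c')) x x.2, mul_inv_cancel_right]
    rfl
  have hφR : R.map φ.toMonoidHom = R := by
    refine Subgroup.eq_of_le_of_card_ge ?_ ?_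
    · rintro _ ⟨x, hx, rfl⟩
      refine (hR' _).2 ?_
      show π ((φ x : P) : G) = 1
      rw [show φ x = (φ ^ 1) x by rw [pow_one], hφk, map_mul, map_mul, (hR' x).1 hx, mul_one,
        map_inv, mul_inv_cancel]
    · exact (Nat.card_congr (R.equivMapOfInjective φ.toMonoidHom φ.injective).toEquiv).le
  have hRe : R.index = p ^ e := by rw [hRidx, hP'V, he]
  have hRtop : R ≠ ⊤ := fun h => hzK ((h.ge (mem_top z)) : z ∈ R)
  obtain ⟨N, hN, hN'⟩ := exists_exponent hp3 he0
  have hfix := fixes_of_coset_class hp hN _ P le_rfl P.isPGroup' R φ hRe hRtop hφR hφ1 hcls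
  have hmove : ∀ x : P, x⁻¹ * (φ ^ N) x ∈ R → x ∈ R := by
    intro x hx
    by_contra hxR
    have h1 : π ((x : G)⁻¹ * ((φ ^ N) x : G)) = 1 := (hR' _).1 hx
    rw [hφk, map_mul, map_inv, map_mul, map_mul, map_inv] at h1
    set w := π x
    set b := π (α ^ N)
    have h2 : b * w = w * b := mul_inv_eq_iff_eq_mul.1 (inv_mul_eq_one.1 h1).symm
    have h3 := mem_of_centralizes V hp hp2 hab hcommV htrans hexp hVne hcentV
      (commute_all V hab hcommV htrans hexp (hπV x) (fun h => hxR ((hR' x).2 h)) h2)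
    rw [show b = π α ^ N from map_pow π α N, hαord, hidx'] at h3
    exact hN' h3
  have hexpP : ∀ x : P, x ^ p = 1 := pow_eq_one_of_coset_class hp hp2 (φ ^ N) hRtop hfix hmove hcls
    (fun x => (hR' _).2 (by rw [SubmonoidClass.coe_pow, map_pow]; exact hexp _ (hπV x)))
    (fun x y => (hR' _).2 (by
      rw [commutatorElement_def]
      show π ((x : G) * y * (x : G)⁻¹ * (y : G)⁻¹) = 1
      rw [map_mul, map_mul, map_mul, map_inv, map_inv, hab _ (hπV x) _ (hπV y), mul_inv_cancel_right, mul_inv_cancel]))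
  -- Hughes subgroup
  have hout : ∀ x ∈ commutator G, x ∉ K → x ^ p = 1 := by
    intro x hx hxK
    obtain ⟨c, hc⟩ := isConj_iff.1 ((hclass _ hzG hzK).symm.trans (hclass x hx hxK))
    have h1 : (z : G) ^ p = 1 := by rw [← SubmonoidClass.coe_pow, hexpP z]; rfl
    rw [← hc, conj_pow, h1, mul_one, mul_inv_cancel]
  set Y := K ⊔ zpowers g with hY
  have hYle : Y ≤ commutator G := sup_le hK (zpowers_le.2 hgG)
  have hKidx : (K.subgroupOf Y).index = p := by
    have hk : (π.comp Y.subtype).ker = K.subgroupOf Y := by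
      ext x; simp [hπ, Subgroup.mem_subgroupOf]
    rw [← hk, Subgroup.index_ker, MonoidHom.range_comp, Subgroup.range_subtype, hY, Subgroup.map_sup,
      (Subgroup.map_eq_bot_iff K).2 (by rw [hπ, QuotientGroup.ker_mk']), bot_sup_eq,
      MonoidHom.map_zpowers, Nat.card_zpowers, hordg]
  haveI : Group.IsNilpotent (K.subgroupOf Y) := CfsgLib.FgsC.Hughes.isNilpotent hKidx
    fun y hy => Subtype.ext (by rw [SubmonoidClass.coe_pow]; exact hout _ (hYle y.2) hy)
  haveI : Group.IsNilpotent K :=
    Group.nilpotent_of_mulEquiv (Subgroup.subgroupOfEquivOfLe (le_sup_left : K ≤ Y))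
  infer_instance

end CfsgLib.CharApps.OneNonvanishing
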